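import Mathlib
import Cfsg.Prelude.Def_CaseTheorems

/-!
# S1920, case B: the configuration (helper13)

`P` is the 2-group with `H = N_G(P)`; `N0 = 4 ∘ 2^{1+4}` (order 64) covers `N`; `ψ : H → S₆` has kernel `N0 · O(H)`.
-/

set_option autoImplicit false

open Subgroup

namespace Cfsg.Agent.H13.Co3

variable {G : Type*} [Group G]

/-- **The configuration of case B.** -/
structure CB (P N0 : Subgroup G) (z s : G) (ψ : ↥(normalizer (P : Set G)) →* Equiv.Perm (Fin 6)) : Prop where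
  P_two : IsPGroup 2 P
  zP : z ∈ P
  PN : P ≤ N0
  NH : N0 ≤ normalizer (P : Set G)
  N_two : IsPGroup 2 N0
  card : Nat.card N0 = 64
  sN : s ∈ N0
  s_sq : s * s = z
  z_sq : z * z = 1
  z_ne : z ≠ 1
  s_cen : ∀ n ∈ N0, n * s = s * n
  sq : ∀ n ∈ N0, n * n = 1 ∨ n * n = z
  comm : ∀ n ∈ N0, ∀ m ∈ N0, n * m = m * n ∨ n * m = z * (m * n)
  cen : ∀ n ∈ N0, (∀ m ∈ N0, n * m = m * n) → n ∈ zpowers s
  z_cen : ∀ h ∈ normalizer (P : Set G), h * z = z * h
  surj : Function.Surjective ψ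
  psi_N : ∀ n (hn : n ∈ N0), ψ ⟨n, NH hn⟩ = 1
  ker_card : ∃ m, Odd m ∧ Nat.card ψ.ker = 64 * m
  ker_solv : Group.IsSolvable ψ.ker
  /-- the odd part of the kernel commutes with `P` -/
  ker_eq : ∀ h : ↥(normalizer (P : Set G)), ψ h = 1 → ∃ n ∈ N0, ∃ o : G, (h : G) = n * o ∧ Odd (orderOf o)
  /-- `A₆` is induced by `C_G(N0)` -/
  even : ∀ π : Equiv.Perm (Fin 6), Equiv.Perm.sign π = 1 →
    ∃ h : ↥(normalizer (P : Set G)), (∀ n ∈ N0, (h : G) * n = n * h) ∧ ψ h = π
  /-- everything is induced by `N_H(N0)` -/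
  frat : ∀ π : Equiv.Perm (Fin 6), ∃ h : ↥(normalizer (P : Set G)), (h : G) ∈ normalizer (N0 : Set G) ∧ ψ h = π
  /-- an element normalising `N0` inverts `s` exactly when it induces an odd permutation -/
  inv_s : ∀ h : ↥(normalizer (P : Set G)), (h : G) ∈ normalizer (N0 : Set G) →
    (Equiv.Perm.sign (ψ h) = 1 ↔ (h : G) * s = s * h)

namespace CB

variable {P N0 : Subgroup G} {z s : G} {ψ : ↥(normalizer (P : Set G)) →* Equiv.Perm (Fin 6)}

/-- **KEY (*)**: every `g` with `[g, N0] ≤ ⟨z⟩` lies in `H = N_G(P)`. -/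
theorem key (C : CB P N0 z s ψ) {g : G} (hg : ∀ n ∈ N0, g * n = n * g ∨ g * n = z * (n * g)) :
    g ∈ normalizer (P : Set G) := by
  have hz : g * z = z * g := by
    rcases hg z (C.PN C.zP) with h | h
    · exact h
    · exfalso
      have h1 : g * z = g := by
        rw [h, ← mul_assoc, C.z_sq, one_mul]
      exact C.z_ne (by simpa using h1)
  have hP : ∀ p ∈ P, g * p * g⁻¹ ∈ P := by
    intro p hp
    rcases hg p (C.PN hp) with h | h
    · rw [h, mul_inv_cancel_right]; exact hp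
    · rw [h]
      have : z * (p * g) * g⁻¹ = z * p := by group
      rw [this]
      exact mul_mem C.zP hp
  rw [mem_normalizer_iff]
  intro p
  refine ⟨hP p, fun h => ?_⟩
  -- `g⁻¹` has the same property
  have hg' : ∀ q ∈ P, g⁻¹ * q * g ∈ P := by
    intro q hq
    rcases hg q (C.PN hq) with h | h
    · have : g⁻¹ * q * g = q := by
        rw [mul_assoc, ← h]; group
      rw [this]; exact hq
    · have h2 : q * g = z * (g * q) := by
        rw [h, ← mul_assoc, C.z_sq, one_mul]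
      have : g⁻¹ * q * g = z * q := by
        rw [mul_assoc, h2, ← mul_assoc z g q, ← hz]; group
      rw [this]
      exact mul_mem C.zP hq
  have := hg' _ h
  have e : g⁻¹ * (g * p * g⁻¹) * g = p := by group
  rwa [e] at this

end CB

end Cfsg.Agent.H13.Co3
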