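import Mathlib
import Cfsg.Agent.LieClassical.QuadForms
import Cfsg.Agent.ClassicalGeometry.SiegelGen

/-!
# The coordinate root elements of type `D_m` generate `Ω⁺_{2m}(F)` (helper13, for S1920)

`rt k l t = 1 + t (E_{lk} - E_{k*l*})`.  `commutator_le`: for `m ≥ 3`, `F` finite of odd order, the commutator subgroup of
the isometry group of `quadFormPlus m F` is contained in the subgroup generated by the isometries with matrix `rt k l t`
(`l ≠ k`, `l ≠ k*`); `omega_le`: the same in `GL`.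
-/

set_option autoImplicit false

open Matrix QuadraticMap

namespace Cfsg.Agent.H13.Co3.OmGen

open Cfsg.Agent.LieClassical.QuadForms Cfsg.Agent.ClassicalGeometry.SiegelGen
  Cfsg.Agent.ClassicalGeometry.Reflection

variable {m : ℕ} {F : Type*} [Field F]

/-- the root element -/
def rt (k l : Fin m ⊕ Fin m) (t : F) : Matrix (Fin m ⊕ Fin m) (Fin m ⊕ Fin m) F :=
  1 + t • (Matrix.single l k 1 - Matrix.single k.swap l.swap 1)

/-- basis vectors -/
abbrev ee (F : Type*) [Field F] (k : Fin m ⊕ Fin m) : Fin m ⊕ Fin m → F := Pi.single k 1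

theorem polar_ee (k : Fin m ⊕ Fin m) (x : Fin m ⊕ Fin m → F) : polar (plusForm m F) (ee F k) x = x k.swap := by
  rw [polar_comm]
  rcases k with i | i
  · rw [ee, polar_plusForm_single_inl, one_mul]; rfl
  · rw [ee, polar_plusForm_single_inr, one_mul]; rfl

theorem Q_ee (k : Fin m ⊕ Fin m) : plusForm m F (ee F k) = 0 := by
  rw [plusForm_apply]
  apply Finset.sum_eq_zero
  intro i _
  rcases k with j | j <;> simp [ee]

theorem swap_ne (k : Fin m ⊕ Fin m) : k.swap ≠ k := by
  rcases k with i | i <;> simp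

theorem swap_eq_iff {k l : Fin m ⊕ Fin m} : k.swap = l ↔ k = l.swap := by
  constructor
  · rintro rfl; rw [Sum.swap_swap]
  · rintro rfl; rw [Sum.swap_swap]

theorem rt_eq (k l : Fin m ⊕ Fin m) (t : F) : rt k l t = Cfsg.siegelMatrix (⇑(plusForm m F)) (ee F k.swap) (ee F l) t := by
  apply Matrix.mulVec_injective
  funext x
  rw [siegelMatrix_mulVec, polar_ee, polar_ee, Sum.swap_swap, rt, Matrix.add_mulVec, Matrix.one_mulVec,
    Matrix.smul_mulVec, Matrix.sub_mulVec, Matrix.single_mulVec, Matrix.single_mulVec]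
  congr 2
  funext j
  simp [ee, Pi.single_apply, Function.update_apply]

theorem polar_pair {k l : Fin m ⊕ Fin m} (h : l ≠ k) : polar (plusForm m F) (ee F k.swap) (ee F l) = 0 := by
  rw [polar_ee, Sum.swap_swap]
  exact Pi.single_eq_of_ne (Ne.symm h) _

/-- the isometry with matrix `rt k l t` -/
def rti (k l : Fin m ⊕ Fin m) (h : l ≠ k) (t : F) : Cfsg.isometryGroup F (⇑(plusForm m F)) :=
  siegelIso (plusForm m F) (ee F k.swap) (ee F l) (Q_ee _) (Q_ee _) (polar_pair h) t

theorem coe_rti (k l : Fin m ⊕ Fin m) (h : l ≠ k) (t : F) :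
    ((rti k l h t : Matrix.GeneralLinearGroup (Fin m ⊕ Fin m) F) : Matrix (Fin m ⊕ Fin m) (Fin m ⊕ Fin m) F) = rt k l t := by
  rw [rt_eq]; rfl

theorem rti_mulVec (k l : Fin m ⊕ Fin m) (h : l ≠ k) (t : F) (x : Fin m ⊕ Fin m → F) :
    ((rti k l h t : Matrix.GeneralLinearGroup (Fin m ⊕ Fin m) F) : Matrix (Fin m ⊕ Fin m) (Fin m ⊕ Fin m) F) *ᵥ x
      = x + t • (x k • ee F l - x l.swap • ee F k.swap) := by
  rw [coe_rti, rt_eq, siegelMatrix_mulVec, polar_ee, polar_ee, Sum.swap_swap]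

/-- the generators with indices in `A` -/
def SS (A : Set (Fin m ⊕ Fin m)) : Set (Cfsg.isometryGroup F (⇑(plusForm m F))) :=
  {g | ∃ (k l : Fin m ⊕ Fin m) (t : F), k ∈ A ∧ l ∈ A ∧ l ≠ k ∧ l ≠ k.swap ∧
    ((g : Matrix.GeneralLinearGroup (Fin m ⊕ Fin m) F) : Matrix (Fin m ⊕ Fin m) (Fin m ⊕ Fin m) F) = rt k l t}

theorem rti_mem {A : Set (Fin m ⊕ Fin m)} {k l : Fin m ⊕ Fin m} (hk : k ∈ A) (hl : l ∈ A) (h : l ≠ k) (h' : l ≠ k.swap)
    (t : F) : rti k l h t ∈ Subgroup.closure (SS (F := F) A) :=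
  Subgroup.subset_closure ⟨k, l, t, hk, hl, h, h', coe_rti k l h t⟩

/-- reachability -/
def RR (A : Set (Fin m ⊕ Fin m)) (x y : Fin m ⊕ Fin m → F) : Prop :=
  ∃ g ∈ Subgroup.closure (SS (F := F) A),
    ((g : Matrix.GeneralLinearGroup (Fin m ⊕ Fin m) F) : Matrix (Fin m ⊕ Fin m) (Fin m ⊕ Fin m) F) *ᵥ x = y

theorem RR.trans {A : Set (Fin m ⊕ Fin m)} {x y w : Fin m ⊕ Fin m → F} (h1 : RR A x y) (h2 : RR A y w) : RR A x w := by
  obtain ⟨g, hg, rfl⟩ := h1
  obtain ⟨h, hh, rfl⟩ := h2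
  exact ⟨h * g, mul_mem hh hg, coe_mul_mulVec _ _ _ _⟩

theorem RR.refl (A : Set (Fin m ⊕ Fin m)) (x : Fin m ⊕ Fin m → F) : RR A x x :=
  ⟨1, one_mem _, by simp⟩

theorem RR.step {A : Set (Fin m ⊕ Fin m)} {k l : Fin m ⊕ Fin m} (hk : k ∈ A) (hl : l ∈ A) (h : l ≠ k) (h' : l ≠ k.swap)
    (t : F) (x : Fin m ⊕ Fin m → F) : RR A x (x + t • (x k • ee F l - x l.swap • ee F k.swap)) :=
  ⟨rti k l h t, rti_mem hk hl h h' t, rti_mulVec k l h t x⟩

theorem RR.Q {A : Set (Fin m ⊕ Fin m)} {x y : Fin m ⊕ Fin m → F} (h : RR A x y) : plusForm m F y = plusForm m F x := by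
  obtain ⟨g, -, rfl⟩ := h
  exact (mem_isometryGroup_iff _ _).1 g.2 x

open Classical in
/-- clear all coordinates except the `k`-th one -/
theorem RR.clear {A : Set (Fin m ⊕ Fin m)} (hA : ∀ j ∈ A, j.swap ∈ A) {k : Fin m ⊕ Fin m} (hk : k ∈ A) :
    ∀ (n : ℕ) (x : Fin m ⊕ Fin m → F), (Finset.univ.filter fun j => j ≠ k ∧ j ≠ k.swap ∧ x j ≠ 0).card = n → x k ≠ 0 →
      (∀ j, j ∉ A → x j = 0) → plusForm m F x = 0 → RR A x (x k • ee F k) := by
  intro n
  induction n with
  | zero =>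
    intro x hn hxk hxA hQ
    have h0 : ∀ j, j ≠ k → j ≠ k.swap → x j = 0 := by
      intro j h1 h2
      by_contra h3
      have : j ∈ (Finset.univ.filter fun j => j ≠ k ∧ j ≠ k.swap ∧ x j ≠ 0) := by simp [h1, h2, h3]
      rw [Finset.card_eq_zero] at hn
      rw [hn] at this
      simp at this
    have hx : x = x k • ee F k + x k.swap • ee F k.swap := by
      funext j
      simp only [Pi.add_apply, Pi.smul_apply, smul_eq_mul, ee, Pi.single_apply]
      by_cases h1 : j = k
      · subst h1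
        simp [(swap_ne j).symm]
      · by_cases h2 : j = k.swap
        · subst h2
          simp [h1]
        · simp [h1, h2, h0 j h1 h2]
    have hz : x k.swap = 0 := by
      have h3 : plusForm m F (x k • ee F k + x k.swap • ee F k.swap) = x k * x k.swap := by
        have h4 := polar_ee (F := F) k (ee F k.swap)
        have h5 : plusForm m F (x k • ee F k + x k.swap • ee F k.swap) = plusForm m F (x k • ee F k) +
            plusForm m F (x k.swap • ee F k.swap) + polar (plusForm m F) (x k • ee F k) (x k.swap • ee F k.swap) := by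
          unfold polar; ring
        rw [h5, QuadraticMap.map_smul, QuadraticMap.map_smul, Q_ee, Q_ee, polar_smul_left, polar_smul_right, h4]
        simp [ee]
      rw [← hx, hQ] at h3
      rcases mul_eq_zero.1 h3.symm with h | h
      · exact absurd h hxk
      · exact h
    rw [hz, zero_smul, add_zero] at hx
    rw [← hx]
    exact RR.refl A x
  | succ n ih =>
    intro x hn hxk hxA hQ
    obtain ⟨l, hl⟩ : (Finset.univ.filter fun j => j ≠ k ∧ j ≠ k.swap ∧ x j ≠ 0).Nonempty := by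
      rw [← Finset.card_pos, hn]; omega
    simp only [Finset.mem_filter, Finset.mem_univ, true_and] at hl
    obtain ⟨h1, h2, h3⟩ := hl
    have hlA : l ∈ A := by
      by_contra h
      exact h3 (hxA l h)
    have hst := RR.step (F := F) hk hlA h1 h2 (-(x l) / x k) x
    set y := x + (-(x l) / x k) • (x k • ee F l - x l.swap • ee F k.swap) with hy
    have hyl : y l = 0 := by
      rw [hy]
      simp only [Pi.add_apply, Pi.smul_apply, Pi.sub_apply, smul_eq_mul, ee, Pi.single_apply, if_true, h2, if_false]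
      field_simp
      ring
    have hyj : ∀ j, j ≠ l → j ≠ k.swap → y j = x j := by
      intro j hj1 hj2
      rw [hy]
      simp only [Pi.add_apply, Pi.smul_apply, Pi.sub_apply, smul_eq_mul, ee, Pi.single_apply, hj1, hj2, if_false]
      ring
    have hyk : y k = x k := hyj k (Ne.symm h1) (swap_ne k).symm
    have hyA : ∀ j, j ∉ A → y j = 0 := by
      intro j hj
      rw [hyj j (fun h => hj (h ▸ hlA)) (fun h => hj (h ▸ hA k hk)), hxA j hj]
    have hyQ : plusForm m F y = 0 := by rw [hst.Q, hQ]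
    have hcard : (Finset.univ.filter fun j => j ≠ k ∧ j ≠ k.swap ∧ y j ≠ 0).card = n := by
      have h4 : (Finset.univ.filter fun j => j ≠ k ∧ j ≠ k.swap ∧ y j ≠ 0) =
          (Finset.univ.filter fun j => j ≠ k ∧ j ≠ k.swap ∧ x j ≠ 0).erase l := by
        ext j
        simp only [Finset.mem_filter, Finset.mem_univ, true_and, Finset.mem_erase]
        constructor
        · rintro ⟨ha, hb, hc⟩
          have hjl : j ≠ l := by rintro rfl; exact hc hyl
          refine ⟨hjl, ha, hb, ?_⟩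
          rwa [← hyj j hjl hb]
        · rintro ⟨hjl, ha, hb, hc⟩
          refine ⟨ha, hb, ?_⟩
          rwa [hyj j hjl hb]
      rw [h4, Finset.card_erase_of_mem (by simp [h1, h2, h3]), hn]
      rfl
    have := ih y hcard (by rw [hyk]; exact hxk) hyA hyQ
    rw [hyk] at this
    exact hst.trans this

theorem RR.move {A : Set (Fin m ⊕ Fin m)} {k l : Fin m ⊕ Fin m} (hk : k ∈ A) (hl : l ∈ A) (h : l ≠ k) (h' : l ≠ k.swap)
    {a : F} (ha : a ≠ 0) : RR A (a • ee F k) (ee F l) := by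
  have h1 := RR.step (F := F) hk hl h h' (1 / a) (a • ee F k)
  have hls : l.swap ≠ k := fun h3 => h' (swap_eq_iff.1 h3)
  have e1 : (a • ee F k) + (1 / a) • ((a • ee F k) k • ee F l - (a • ee F k) l.swap • ee F k.swap) =
      a • ee F k + ee F l := by
    have h3 : (a • ee F k : Fin m ⊕ Fin m → F) k = a := by simp [ee]
    have h4 : (a • ee F k : Fin m ⊕ Fin m → F) l.swap = 0 := by simp [ee, hls]
    rw [h3, h4, zero_smul, sub_zero, smul_smul, one_div, inv_mul_cancel₀ ha, one_smul]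
  rw [e1] at h1
  have hks : k ≠ l.swap := fun h3 => hls h3.symm
  have h2 := RR.step (F := F) hl hk (Ne.symm h) hks (-a) (a • ee F k + ee F l)
  have e2 : (a • ee F k + ee F l) + (-a) • ((a • ee F k + ee F l) l • ee F k -
      (a • ee F k + ee F l) k.swap • ee F l.swap) = ee F l := by
    have h3 : (a • ee F k + ee F l : Fin m ⊕ Fin m → F) l = 1 := by simp [ee, h]
    have h4 : (a • ee F k + ee F l : Fin m ⊕ Fin m → F) k.swap = 0 := by simp [ee, swap_ne k, Ne.symm h']
    rw [h3, h4, zero_smul, sub_zero, one_smul, neg_smul]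
    abel
  rw [e2] at h2
  exact h1.trans h2

theorem RR.to {A : Set (Fin m ⊕ Fin m)} (hA : ∀ j ∈ A, j.swap ∈ A) {l l' : Fin m ⊕ Fin m} (hl : l ∈ A) (hl' : l' ∈ A)
    (h1 : l' ≠ l) (h2 : l' ≠ l.swap) {x : Fin m ⊕ Fin m → F} (hx : x ≠ 0) (hxA : ∀ j, j ∉ A → x j = 0)
    (hQ : plusForm m F x = 0) : RR A x (ee F l) := by
  obtain ⟨k, hk⟩ : ∃ k, x k ≠ 0 := by
    by_contra h
    push Not at h
    exact hx (funext h)
  have hkA : k ∈ A := by
    by_contra h
    exact hk (hxA k h)
  have h3 := RR.clear hA hkA _ x rfl hk hxA hQ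
  by_cases h4 : l ≠ k ∧ l ≠ k.swap
  · exact h3.trans (RR.move hkA hl h4.1 h4.2 hk)
  · have h5 : l' ≠ k ∧ l' ≠ k.swap := by
      by_cases h6 : l = k
      · subst h6; exact ⟨h1, h2⟩
      · have h7 : l = k.swap := by
          by_contra h8
          exact h4 ⟨h6, h8⟩
        subst h7
        rw [Sum.swap_swap] at h2
        exact ⟨h2, h1⟩
    have h6 := RR.move (F := F) hkA hl' h5.1 h5.2 hk
    have h7 := RR.move (F := F) (A := A) (a := 1) hl' hl (Ne.symm h1) (fun h => h2 (swap_eq_iff.1 h.symm)) one_ne_zero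
    rw [one_smul] at h7
    exact (h3.trans h6).trans h7

theorem closure_fix {A : Set (Fin m ⊕ Fin m)} {j : Fin m ⊕ Fin m} (hA : ∀ j ∈ A, j.swap ∈ A) (hj : j ∉ A)
    {g : Cfsg.isometryGroup F (⇑(plusForm m F))} (hg : g ∈ Subgroup.closure (SS (F := F) A)) :
    ((g : Matrix.GeneralLinearGroup (Fin m ⊕ Fin m) F) : Matrix (Fin m ⊕ Fin m) (Fin m ⊕ Fin m) F) *ᵥ ee F j = ee F j := by
  induction hg using Subgroup.closure_induction with
  | mem g hg =>
    obtain ⟨k, l, t, hk, hl, h1, h2, hg⟩ := hg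
    rw [hg, ← coe_rti k l h1 t, rti_mulVec]
    have hkj : k ≠ j := fun h => hj (h ▸ hk)
    have hlj : l.swap ≠ j := fun h => hj (h ▸ hA l hl)
    have h3 : ee F j k = 0 := Pi.single_eq_of_ne hkj _
    have h4 : ee F j l.swap = 0 := Pi.single_eq_of_ne hlj _
    rw [h3, h4]
    simp
  | one => rw [OneMemClass.coe_one, Units.val_one, Matrix.one_mulVec]
  | mul a b _ _ ha hb => rw [coe_mul_mulVec, hb, ha]
  | inv a _ ha =>
    conv_lhs => rw [← ha]
    rw [← coe_mul_mulVec, inv_mul_cancel, OneMemClass.coe_one, Units.val_one, Matrix.one_mulVec]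

/-- **The coordinate root elements generate the commutator subgroup.** -/
theorem commutator_le [Finite F] (hm : 3 ≤ m) (h2 : (2 : F) ≠ 0) :
    commutator (Cfsg.isometryGroup F (⇑(plusForm m F))) ≤ Subgroup.closure (SS (F := F) (Set.univ : Set (Fin m ⊕ Fin m))) := by
  have hnd : (polarBilin (plusForm m F)).Nondegenerate := by
    refine ⟨?_, ?_⟩
    · intro u hu
      exact polar_plusForm_nondeg m u hu
    · intro u hu
      refine polar_plusForm_nondeg m u fun v => ?_
      rw [polar_comm]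
      exact hu v
  rw [commutator_eq_siegelGroup h2 (plusForm m F) hnd (by rw [Fintype.card_sum, Fintype.card_fin]; omega), siegelGroup,
    Subgroup.closure_le]
  rintro g ⟨u, v, c, hu, hv, huv, hg⟩
  show g ∈ Subgroup.closure (SS (F := F) (Set.univ : Set (Fin m ⊕ Fin m)))
  set i0 : Fin m := ⟨0, by omega⟩ with hi0
  set i1 : Fin m := ⟨1, by omega⟩ with hi1
  set i2 : Fin m := ⟨2, by omega⟩ with hi2
  have h01 : i0 ≠ i1 := by rw [hi0, hi1]; simp
  have h12 : i1 ≠ i2 := by rw [hi2, hi1]; simp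
  have h02 : i0 ≠ i2 := by rw [hi0, hi2]; simp
  have hone : ∀ g : Cfsg.isometryGroup F (⇑(plusForm m F)),
      ((g : Matrix.GeneralLinearGroup (Fin m ⊕ Fin m) F) : Matrix (Fin m ⊕ Fin m) (Fin m ⊕ Fin m) F) = 1 →
      g ∈ Subgroup.closure (SS (F := F) (Set.univ : Set (Fin m ⊕ Fin m))) := by
    intro g hg
    have : g = 1 := Subtype.ext (Units.ext hg)
    rw [this]; exact one_mem _
  have hz : ∀ u v : Fin m ⊕ Fin m → F, (u = 0 ∨ v = 0) → Cfsg.siegelMatrix (⇑(plusForm m F)) u v c = 1 := by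
    intro u v h
    apply Matrix.mulVec_injective
    funext x
    rw [siegelMatrix_mulVec, Matrix.one_mulVec]
    rcases h with rfl | rfl
    · rw [polar_zero_left, zero_smul, smul_zero, sub_zero, smul_zero, add_zero]
    · rw [polar_zero_left, zero_smul, smul_zero, sub_zero, smul_zero, add_zero]
  -- conjugation
  have hconj : ∀ (k g : Cfsg.isometryGroup F (⇑(plusForm m F))), k ∈ Subgroup.closure (SS (F := F) (Set.univ : Set (Fin m ⊕ Fin m))) →
      k * g * k⁻¹ ∈ Subgroup.closure (SS (F := F) (Set.univ : Set (Fin m ⊕ Fin m))) →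
      g ∈ Subgroup.closure (SS (F := F) (Set.univ : Set (Fin m ⊕ Fin m))) := by
    intro k g hk h
    have e : g = k⁻¹ * (k * g * k⁻¹) * k := by group
    rw [e]
    exact mul_mem (mul_mem (inv_mem hk) h) hk
  by_cases hu0 : u = 0
  · exact hone g (by rw [hg, hz u v (Or.inl hu0)])
  have hun : ∀ j ∈ (Set.univ : Set (Fin m ⊕ Fin m)), j.swap ∈ (Set.univ : Set (Fin m ⊕ Fin m)) := fun _ _ => Set.mem_univ _
  obtain ⟨k, hk, hku⟩ := RR.to (F := F) hun (l := Sum.inl i0) (l' := Sum.inl i1) (Set.mem_univ _) (Set.mem_univ _)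
    (by simpa using h01.symm) (by simp) hu0 (fun j hj => absurd (Set.mem_univ j) hj) hu
  refine hconj k g hk ?_
  have hki := (mem_isometryGroup_iff _ _).1 k.2
  have hg1 := conj_siegel (plusForm m F) k g u v c hg
  rw [hku] at hg1
  set w := ((k : Matrix.GeneralLinearGroup (Fin m ⊕ Fin m) F) : Matrix (Fin m ⊕ Fin m) (Fin m ⊕ Fin m) F) *ᵥ v with hw
  have hwQ : plusForm m F w = 0 := by rw [hw, hki, hv]
  have hwp : polar (plusForm m F) (ee F (Sum.inl i0)) w = 0 := by
    rw [← hku, hw, polar_mulVec_of_isometry _ _ hki, huv]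
  rw [polar_ee] at hwp
  -- remove the component along `p`
  set w' := w - w (Sum.inl i0) • ee F (Sum.inl i0) with hw'
  have hsie : Cfsg.siegelMatrix (⇑(plusForm m F)) (ee F (Sum.inl i0)) w c =
      Cfsg.siegelMatrix (⇑(plusForm m F)) (ee F (Sum.inl i0)) w' c := by
    apply Matrix.mulVec_injective
    funext x
    have hp : polar (plusForm m F) w' x = polar (plusForm m F) w x -
        w (Sum.inl i0) * polar (plusForm m F) (ee F (Sum.inl i0)) x := by
      rw [hw', polar_sub_left, polar_smul_left, smul_eq_mul]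
    rw [siegelMatrix_mulVec, siegelMatrix_mulVec, hp, hw']
    module
  have hw'Q : plusForm m F w' = 0 := by
    have h5 : plusForm m F (w + (-(w (Sum.inl i0))) • ee F (Sum.inl i0)) = plusForm m F w +
        plusForm m F ((-(w (Sum.inl i0))) • ee F (Sum.inl i0)) +
        polar (plusForm m F) w ((-(w (Sum.inl i0))) • ee F (Sum.inl i0)) := by
      unfold polar; ring
    rw [hw', sub_eq_add_neg, ← neg_smul, h5, QuadraticMap.map_smul, Q_ee, hwQ, polar_smul_right, polar_comm, polar_ee, hwp]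
    simp
  rw [hsie] at hg1
  by_cases hw0 : w' = 0
  · exact hone _ (by rw [hg1, hz _ _ (Or.inr hw0)])
  set A : Set (Fin m ⊕ Fin m) := {j | j ≠ Sum.inl i0 ∧ j ≠ Sum.inr i0} with hAdef
  have hA : ∀ j ∈ A, j.swap ∈ A := by
    rintro (j | j) ⟨h3, h4⟩
    · exact ⟨by simp, by simpa using h3⟩
    · exact ⟨by simpa using h4, by simp⟩
  have hw'A : ∀ j, j ∉ A → w' j = 0 := by
    intro j hj
    have h3 : j = Sum.inl i0 ∨ j = Sum.inr i0 := by
      by_contra h
      push Not at h
      exact hj ⟨h.1, h.2⟩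
    rcases h3 with rfl | rfl
    · rw [hw']; simp [ee]
    · have : w (Sum.inr i0) = 0 := hwp
      rw [hw']; simp [ee, this]
  obtain ⟨h, hh, hhw⟩ := RR.to (F := F) hA (l := Sum.inl i1) (l' := Sum.inl i2) ⟨by simpa using h01.symm, by simp⟩
    ⟨by simpa using h02.symm, by simp⟩ (by simpa using h12.symm) (by simp) hw0 hw'A hw'Q
  have hmono : SS (F := F) A ⊆ SS (F := F) (Set.univ : Set (Fin m ⊕ Fin m)) := by
    rintro g ⟨k, l, t, -, -, h1, h2, hg⟩
    exact ⟨k, l, t, Set.mem_univ _, Set.mem_univ _, h1, h2, hg⟩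
  refine hconj h _ (Subgroup.closure_mono hmono hh) ?_
  have hg2 := conj_siegel (plusForm m F) h (k * g * k⁻¹) _ _ c hg1
  rw [closure_fix hA (j := Sum.inl i0) (by simp [hAdef]) hh, hhw] at hg2
  apply Subgroup.subset_closure
  refine ⟨Sum.inr i0, Sum.inl i1, c, Set.mem_univ _, Set.mem_univ _, by simp, ?_, ?_⟩
  · simpa using h01.symm
  · rw [hg2, rt_eq]
    rfl

/-- **The same in `GL`.** -/
theorem omega_le [Finite F] (hm : 3 ≤ m) (h2 : (2 : F) ≠ 0) :
    (commutator (Cfsg.isometryGroup F (Cfsg.quadFormPlus m F))).map (Cfsg.isometryGroup F (Cfsg.quadFormPlus m F)).subtype ≤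
      Subgroup.closure {g : Matrix.GeneralLinearGroup (Fin m ⊕ Fin m) F | ∃ (k l : Fin m ⊕ Fin m) (t : F), l ≠ k ∧ l ≠ k.swap ∧
        (g : Matrix (Fin m ⊕ Fin m) (Fin m ⊕ Fin m) F) = rt k l t} := by
  suffices key : ∀ Qf : (Fin m ⊕ Fin m → F) → F, ⇑(plusForm m F) = Qf →
      (commutator (Cfsg.isometryGroup F Qf)).map (Cfsg.isometryGroup F Qf).subtype ≤
      Subgroup.closure {g : Matrix.GeneralLinearGroup (Fin m ⊕ Fin m) F | ∃ (k l : Fin m ⊕ Fin m) (t : F), l ≠ k ∧ l ≠ k.swap ∧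
        (g : Matrix (Fin m ⊕ Fin m) (Fin m ⊕ Fin m) F) = rt k l t} by
    exact key _ (coe_plusForm m)
  rintro _ rfl _ ⟨g, hg, rfl⟩
  have h1 := commutator_le (F := F) hm h2 hg
  clear hg
  induction h1 using Subgroup.closure_induction with
  | mem g hg =>
    obtain ⟨k, l, t, -, -, h1, h2, hg⟩ := hg
    exact Subgroup.subset_closure ⟨k, l, t, h1, h2, hg⟩
  | one => exact one_mem _
  | mul a b _ _ ha hb => exact mul_mem ha hb
  | inv a _ ha => exact inv_mem ha

end Cfsg.Agent.H13.Co3.OmGen
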