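import Mathlib
import Cfsg.Prelude.Def_Classical

/-!
# S1920, case B: the interface between `C_G(z)` and an orthogonal space (helper13)

`Theta m F z`: a homomorphism from `C_G(z)` to the group of proper similitudes of the split quadratic space `F^{2m}`
modulo scalars, given by the relation `R g M` ("`M` represents `g`"), with kernel `{1, z}` and image containing
`PΩ_{2m}^+(F)`.  `mso M` is the dimension of the `(-1)`-eigenspace of `Ad M` on `so_{2m}(F)`.
-/

set_option autoImplicit false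

open Matrix

namespace Cfsg.Agent.H13.Co3

/-- The matrix of the split bilinear form on `F^m ⊕ F^m`. -/
def JJ (m : ℕ) (F : Type*) [Field F] : Matrix (Fin m ⊕ Fin m) (Fin m ⊕ Fin m) F :=
  Matrix.fromBlocks 0 1 1 0

/-- the orthogonal Lie algebra -/
def soo (m : ℕ) (F : Type*) [Field F] : Submodule F (Matrix (Fin m ⊕ Fin m) (Fin m ⊕ Fin m) F) where
  carrier := {A | Aᵀ * JJ m F + JJ m F * A = 0}
  zero_mem' := by simp
  add_mem' := by
    intro a b ha hb
    simp only [Set.mem_ofPred_eq] at *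
    rw [transpose_add, add_mul, mul_add]
    calc aᵀ * JJ m F + bᵀ * JJ m F + (JJ m F * a + JJ m F * b)
        = (aᵀ * JJ m F + JJ m F * a) + (bᵀ * JJ m F + JJ m F * b) := by abel
      _ = 0 := by rw [ha, hb, add_zero]
  smul_mem' := by
    intro c a ha
    simp only [Set.mem_ofPred_eq] at *
    rw [transpose_smul, Matrix.smul_mul, Matrix.mul_smul, ← smul_add, ha, smul_zero]

/-- the `(-1)`-eigenspace of `Ad M` on the orthogonal Lie algebra -/
noncomputable def msoSpace (m : ℕ) (F : Type*) [Field F] (M : GL (Fin m ⊕ Fin m) F) :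
    Submodule F (Matrix (Fin m ⊕ Fin m) (Fin m ⊕ Fin m) F) where
  carrier := {A | A ∈ soo m F ∧ (M : Matrix _ _ F) * A = -(A * (M : Matrix _ _ F))}
  zero_mem' := ⟨(soo m F).zero_mem, by simp⟩
  add_mem' := by
    rintro a b ⟨ha, ha'⟩ ⟨hb, hb'⟩
    exact ⟨(soo m F).add_mem ha hb, by rw [mul_add, add_mul, ha', hb', neg_add]⟩
  smul_mem' := by
    rintro c a ⟨ha, ha'⟩
    exact ⟨(soo m F).smul_mem c ha, by rw [Matrix.mul_smul, Matrix.smul_mul, ha', smul_neg]⟩

/-- the dimension of the `(-1)`-eigenspace of `Ad M` on the orthogonal Lie algebra -/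
noncomputable def mso (m : ℕ) (F : Type*) [Field F] (M : GL (Fin m ⊕ Fin m) F) : ℕ :=
  Module.finrank F (msoSpace m F M)

/-- **The representation of `C_G(z)` by proper similitudes.** -/
structure Theta (m : ℕ) (F : Type*) [Field F] {G : Type*} [Group G] (z : G) where
  /-- `M` represents `g` -/
  R : Subgroup (G × GL (Fin m ⊕ Fin m) F)
  dom : ∀ g, g * z = z * g → ∃ M, (g, M) ∈ R
  dom' : ∀ g M, (g, M) ∈ R → g * z = z * g
  /-- the scalars represent 1 -/
  scal : ∀ M : GL (Fin m ⊕ Fin m) F, (1, M) ∈ R ↔ ∃ c : F, (M : Matrix (Fin m ⊕ Fin m) (Fin m ⊕ Fin m) F) = c • 1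
  /-- the kernel is `{1, z}` -/
  ker : ∀ g, (g, 1) ∈ R ↔ g = 1 ∨ g = z
  /-- similitudes -/
  sim : ∀ g M, (g, M) ∈ R → ∃ μ : F, μ ≠ 0 ∧ (∀ v, quadFormPlus m F ((M : Matrix (Fin m ⊕ Fin m) (Fin m ⊕ Fin m) F).mulVec v) = μ * quadFormPlus m F v) ∧
    (M : Matrix (Fin m ⊕ Fin m) (Fin m ⊕ Fin m) F).det = μ ^ m
  /-- the image contains the commutator subgroup of the orthogonal group -/
  omega : ∀ M : isometryGroup F (quadFormPlus m F), M ∈ commutator (isometryGroup F (quadFormPlus m F)) →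
    ∃ g, (g, (M : GL (Fin m ⊕ Fin m) F)) ∈ R

/-- **What the row `E₈`, `z` of type `D₈`, gets from the group.** -/
structure Theta16 (F : Type*) [Field F] {G : Type*} [Group G] (z : G) extends Theta 8 F z where
  tab4 : ∀ g M, (g, M) ∈ R → g * g = z → mso 8 F M = 28 ∨ mso 8 F M = 56 ∨ mso 8 F M = 60
  tab2 : ∀ g M, (g, M) ∈ R → g * g = 1 → g ≠ 1 → g ≠ z → (∃ h, h * g * h⁻¹ = z * g) → mso 8 F M = 48 ∨ mso 8 F M = 64

end Cfsg.Agent.H13.Co3
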